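import Groth.Agent.AlgSp.K596.QC
import Mathlib.AlgebraicGeometry.Morphisms.QuasiSeparated

set_option autoImplicit false
universe u
open CategoryTheory CategoryTheory.Limits AlgebraicGeometry Opposite Topology TopologicalSpace

namespace K596.QC2

open AlgSp K596.Pts K596.Univ K596.QC

variable {S : Scheme.{u}} {F G H P : Sp S}

theorem isUnivOpenMor_of_isEtaleMor (hF : IsAlgSpace F) {g : F ⟶ G} (hg : IsEtaleMor g) :
    IsUnivOpenMor g := by
  obtain ⟨U, a, ha, has⟩ := hF.atlas
  refine isUnivOpenMor_of_precomp has ?_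
  have h := hg a ha
  exact (repWith_universallyOpen_iff h.1).1 (repWith_universallyOpen_of_etale h)

theorem isQuasiCompactSp_of_iso {F G : Sp S} (hG : IsAlgSpace G) (e : F ≅ G) (h : IsQuasiCompactSp F) :
    IsQuasiCompactSp G := by
  refine isQuasiCompactSp_of_surjective hG e.hom (fun y => ⟨Points.map e.inv y, ?_⟩)
    (K609.QC.compactSpace_points h)
  rw [← Points.map_comp, e.inv_hom_id, Points.map_id]

/-- Cancellation for quasi-compact morphisms. -/
theorem isQuasiCompactMor_of_comp {X Y Z : Sp S} (hX : IsAlgSpace X) (hY : IsAlgSpace Y)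
    {f : X ⟶ Y} {g : Y ⟶ Z} (hgf : IsQuasiCompactMor (f ≫ g)) (hg : IsQuasiSeparatedMor g) :
    IsQuasiCompactMor f := by
  intro T Q hT hTc z a b sq
  have h1 : IsQuasiCompactSp (pullback (f ≫ g) (z ≫ g)) :=
    hgf hT hTc (z ≫ g) _ _ (IsPullback.of_hasPullback _ _)
  have sq1 := pullback_map_diagonal_isPullback f z g
  have h2 : IsQuasiCompactSp (pullback f z) :=
    isQuasiCompactSp_of_repWith h1 (MorphismProperty.of_isPullback (P := RepWith _) sq1 hg)
  exact isQuasiCompactSp_of_iso (K613.Chart.isAlgSpace_of_isPullback hY.diag hX hT sq)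
    (sq.isoPullback).symm h2

variable (S) in
/-- `h_S` is terminal -/
noncomputable def isTerminalYon : IsTerminal ((yon S).obj (Over.mk (𝟙 S))) :=
  IsTerminal.isTerminalObj (yon S) _ Over.mkIdTerminal

theorem isQuasiCompactMor_toBase [QuasiSeparatedSpace ↥S] {X : Sp S} (hX : IsAlgSpace X)
    (hc : IsQuasiCompactSp X) (t : X ⟶ (yon S).obj (Over.mk (𝟙 S))) : IsQuasiCompactMor t := by
  obtain ⟨U, p, hU, hp, hs⟩ := K609.QC.exists_affine_chart hc
  refine isQuasiCompactMor_of_surjective_comp hX (IsAlgSpace.yon_obj _) (surjective_of_repWith hs) ?_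
  have h1 : p ≫ t = (yon S).map (Over.homMk U.hom (Category.comp_id _)) :=
    (isTerminalYon S).hom_ext _ _
  rw [h1]
  refine isQuasiCompactMor_of_repWith ((repWith_yon_map_iff _ _).2 ?_)
  change QuasiCompact U.hom
  infer_instance

/-- Over a quasi-separated base, a morphism from a quasi-compact space to a quasi-separated one is
quasi-compact. -/
theorem isQuasiCompactMor_of_qc_of_qs [QuasiSeparatedSpace ↥S] {X Y : Sp S} (hX : IsAlgSpace X)
    (hY : IsAlgSpace Y) (f : X ⟶ Y) (hXc : IsQuasiCompactSp X) (hYs : IsQuasiSeparatedSp Y) :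
    IsQuasiCompactMor f :=
  isQuasiCompactMor_of_comp (g := (isTerminalYon S).from Y) hX hY
    (isQuasiCompactMor_toBase hX hXc _) (K613.Diag.repWith_diagonal_of_diag hYs _)

/-- A fibre product of quasi-separated sheaves is quasi-separated. -/
theorem repWith_diag_of_isPullback {Pr : MorphismProperty Scheme.{u}} [Pr.IsStableUnderBaseChange]
    [Pr.IsStableUnderComposition] {X Y Z : Sp S} (hX : RepWith Pr (Limits.diag X))
    (hY : RepWith Pr (Limits.diag Y)) {f : X ⟶ Z} {g : Y ⟶ Z} {fst : P ⟶ X} {snd : P ⟶ Y}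
    (sq : IsPullback fst snd f g) : RepWith Pr (Limits.diag P) := by
  rw [K613.Chart.repWith_diag_iff] at *
  intro T a b
  obtain ⟨E, e, he, hP⟩ := hX T (a ≫ fst) (b ≫ fst)
  obtain ⟨E', e', he', hP'⟩ := hY E (((yon S).map e ≫ a) ≫ snd) (((yon S).map e ≫ b) ≫ snd)
  refine ⟨E', e' ≫ e, ⟨?_, fun R r hr => ?_⟩, ?_⟩
  · apply sq.hom_ext
    · have := he.w
      simp only [Functor.map_comp, Category.assoc] at this ⊢
      rw [this]
    · have := he'.w
      simp only [Functor.map_comp, Category.assoc] at this ⊢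
      rw [this]
  · obtain ⟨r', hr', hu⟩ := he.lift R r (by
      rw [← Category.assoc, hr, Category.assoc])
    obtain ⟨r'', hr'', hu'⟩ := he'.lift R r' (by
      rw [← Category.assoc, ← Category.assoc, ← Category.assoc, ← Category.assoc, ← Functor.map_comp, hr', hr])
    refine ⟨r'', by dsimp only; rw [← Category.assoc, hr'', hr'], fun y hy => ?_⟩
    refine hu' _ (hu _ ?_)
    dsimp only
    rw [Category.assoc]
    exact hy
  · exact Pr.comp_mem _ _ hP' hP

end K596.QC2
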