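import Groth.Prelude.Def_AlgSp4

set_option autoImplicit false
universe u
open CategoryTheory CategoryTheory.Limits AlgebraicGeometry Opposite Topology

namespace K596.Pts

open AlgSp

variable {S : Scheme.{u}} {F G H P : Sp S}

/-- the point defined by a map from the spectrum of a field -/
noncomputable def fpt {K : Type u} [Field K] {str : Spec (CommRingCat.of K) ⟶ S}
    (g : (yon S).obj (Over.mk str) ⟶ F) : Points F :=
  Points.mk ⟨K, str, (J S).uliftYonedaEquiv g⟩

theorem exists_fpt (x : Points F) :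
    ∃ (K : Type u) (_ : Field K) (str : Spec (CommRingCat.of K) ⟶ S)
      (g : (yon S).obj (Over.mk str) ⟶ F), fpt g = x := by
  induction x using Points.ind with
  | h p =>
    refine ⟨p.K, inferInstance, p.str, (J S).uliftYonedaEquiv.symm p.val, ?_⟩
    unfold fpt
    rw [Equiv.apply_symm_apply]
    rfl

theorem map_fpt {K : Type u} [Field K] {str : Spec (CommRingCat.of K) ⟶ S}
    (g : (yon S).obj (Over.mk str) ⟶ F) (f : F ⟶ G) : Points.map f (fpt g) = fpt (g ≫ f) := by
  unfold fpt
  rw [GrothendieckTopology.uliftYonedaEquiv_comp]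
  rfl

theorem ofPt_closedPoint {K : Type u} [Field K] {str : Spec (CommRingCat.of K) ⟶ S}
    (g : (yon S).obj (Over.mk str) ⟶ F) (t : ↥(Spec (CommRingCat.of K))) :
    Points.ofPt g (show ↥(Over.mk str).left from t) = fpt g := by
  rw [Points.ofPt_eq_map_ofScheme]
  have h := Points.ofScheme_apply_eq_mk (Over.mk str) (K := K) (str := str)
    (𝟙 (Spec (CommRingCat.of K))) (by simp)
  have ht : t = IsLocalRing.closedPoint K := Subsingleton.elim _ _
  subst ht
  have h1 : fpt (𝟙 ((yon S).obj (Over.mk str))) = Points.ofScheme (Over.mk str) (IsLocalRing.closedPoint K) := by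
    refine Eq.trans ?_ h.symm
    rfl
  rw [← h1, map_fpt, Category.id_comp]

theorem fpt_eq_iff {K L : Type u} [Field K] [Field L] {str : Spec (CommRingCat.of K) ⟶ S}
    {str' : Spec (CommRingCat.of L) ⟶ S} (g : (yon S).obj (Over.mk str) ⟶ F)
    (g' : (yon S).obj (Over.mk str') ⟶ F) :
    fpt g = fpt g' ↔ ∃ (Ω : Type u) (_ : Field Ω) (w : Spec (CommRingCat.of Ω) ⟶ S)
      (a : Over.mk w ⟶ Over.mk str) (b : Over.mk w ⟶ Over.mk str'),
      (yon S).map a ≫ g = (yon S).map b ≫ g' := by
  unfold fpt
  rw [Points.mk_eq_mk_iff]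
  constructor
  · rintro ⟨Ω, _, w, a, b, h⟩
    refine ⟨Ω, inferInstance, w, a, b, ?_⟩
    apply (J S).uliftYonedaEquiv.injective
    rw [← GrothendieckTopology.uliftYonedaEquiv_naturality, ← GrothendieckTopology.uliftYonedaEquiv_naturality]
    exact h
  · rintro ⟨Ω, _, w, a, b, h⟩
    refine ⟨Ω, inferInstance, w, a, b, ?_⟩
    have := congrArg (J S).uliftYonedaEquiv h
    rw [← GrothendieckTopology.uliftYonedaEquiv_naturality, ← GrothendieckTopology.uliftYonedaEquiv_naturality] at this
    exact this

/-- Points of a fibre product surject onto the fibre product of the points. -/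
theorem exists_of_isPullback {fst : P ⟶ F} {snd : P ⟶ G} {f : F ⟶ H} {g : G ⟶ H}
    (sq : IsPullback fst snd f g) (x : Points F) (y : Points G)
    (h : Points.map f x = Points.map g y) :
    ∃ z : Points P, Points.map fst z = x ∧ Points.map snd z = y := by
  obtain ⟨K, _, str, a, rfl⟩ := exists_fpt x
  obtain ⟨L, _, str', b, rfl⟩ := exists_fpt y
  rw [map_fpt, map_fpt, fpt_eq_iff] at h
  obtain ⟨Ω, _, w, i, j, hij⟩ := h
  refine ⟨fpt (sq.lift ((yon S).map i ≫ a) ((yon S).map j ≫ b) (by simpa using hij)), ?_, ?_⟩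
  · rw [map_fpt, sq.lift_fst, fpt_eq_iff]
    exact ⟨Ω, inferInstance, w, 𝟙 _, i, by rw [(yon S).map_id, Category.id_comp]⟩
  · rw [map_fpt, sq.lift_snd, fpt_eq_iff]
    exact ⟨Ω, inferInstance, w, 𝟙 _, j, by rw [(yon S).map_id, Category.id_comp]⟩

/-- base change formula for images on points -/
theorem preimage_image {fst : P ⟶ F} {snd : P ⟶ G} {f : F ⟶ H} {g : G ⟶ H}
    (sq : IsPullback fst snd f g) (D : Set (Points F)) :
    Points.map g ⁻¹' (Points.map f '' D) = Points.map snd '' (Points.map fst ⁻¹' D) := by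
  ext y
  constructor
  · rintro ⟨x, hx, hxy⟩
    obtain ⟨z, rfl, rfl⟩ := exists_of_isPullback sq x y hxy
    exact ⟨z, hx, rfl⟩
  · rintro ⟨z, hz, rfl⟩
    refine ⟨Points.map fst z, hz, ?_⟩
    rw [← Points.map_comp, ← Points.map_comp, sq.w]

theorem surjective_of_isPullback {fst : P ⟶ F} {snd : P ⟶ G} {f : F ⟶ H} {g : G ⟶ H}
    (sq : IsPullback fst snd f g) (hf : Function.Surjective (Points.map f)) :
    Function.Surjective (Points.map snd) := by
  intro y
  obtain ⟨x, hx⟩ := hf (Points.map g y)
  obtain ⟨z, -, hz⟩ := exists_of_isPullback sq x y hx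
  exact ⟨z, hz⟩

/-- A representable surjective map is surjective on points. -/
theorem surjective_of_repWith {f : F ⟶ G} (hf : RepWith @Surjective f) :
    Function.Surjective (Points.map f) := by
  intro y
  obtain ⟨K, _, str, g, rfl⟩ := exists_fpt y
  obtain ⟨V, snd, fst, sq⟩ := hf.1 g
  have hs : Surjective snd.left := hf.2 g fst snd sq
  obtain ⟨v, hv⟩ := hs.surj (IsLocalRing.closedPoint K)
  refine ⟨Points.ofPt fst v, ?_⟩
  rw [Points.map_ofPt, sq.w, ← Points.map_ofPt]
  have : Points.ofPt ((yon S).map snd) v = Points.ofScheme _ (snd.left v) := by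
    rw [← Points.toScheme_ofPt, Points.ofScheme_toScheme]
  rw [this, Points.map_ofPt, Category.id_comp]
  exact ofPt_closedPoint g _

theorem repWith_surjective_of_surjective {f : F ⟶ G} (hf : Representable f)
    (h : Function.Surjective (Points.map f)) : RepWith @Surjective f := by
  refine ⟨hf, fun U V g fst snd sq => ⟨fun t => ?_⟩⟩
  obtain ⟨z, hz⟩ := surjective_of_isPullback sq h (Points.schemeHomeo U t)
  obtain ⟨v, rfl⟩ := (Points.schemeHomeo V).surjective z
  rw [Points.map_yon_map_apply] at hz
  exact ⟨v, (Points.schemeHomeo U).injective hz⟩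

theorem repWith_surjective_iff {f : F ⟶ G} (hf : Representable f) :
    RepWith @Surjective f ↔ Function.Surjective (Points.map f) :=
  ⟨surjective_of_repWith, repWith_surjective_of_surjective hf⟩

theorem range_map_yon {T U : Over S} (φ : T ⟶ U) (D : Set ↥T.left) :
    Points.map ((yon S).map φ) '' (Points.schemeHomeo T '' D) = Points.schemeHomeo U '' (φ.left '' D) := by
  ext x
  constructor
  · rintro ⟨_, ⟨t, ht, rfl⟩, rfl⟩
    exact ⟨φ.left t, ⟨t, ht, rfl⟩, (Points.map_yon_map_apply φ t).symm⟩
  · rintro ⟨_, ⟨t, ht, rfl⟩, rfl⟩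
    exact ⟨_, ⟨t, ht, rfl⟩, Points.map_yon_map_apply φ t⟩

/-! ### the topology -/

/-- openness is tested on maps from schemes -/
theorem isOpen_iff_map {W : Set (Points F)} :
    IsOpen W ↔ ∀ (T : Over S) (g : (yon S).obj T ⟶ F), IsOpen (Points.map g ⁻¹' W) := by
  constructor
  · intro h T g
    exact h.preimage (Points.continuous_map g)
  · intro h
    rw [Points.isOpen_iff]
    intro T g
    have : Points.ofPt g ⁻¹' W = Points.schemeHomeo T ⁻¹' (Points.map g ⁻¹' W) := by
      ext t
      simp only [Set.mem_preimage]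
      rw [Points.ofPt_eq_map_ofScheme]
      rfl
    rw [this]
    exact (h T g).preimage (Points.schemeHomeo T).continuous

theorem isClosed_iff_map {W : Set (Points F)} :
    IsClosed W ↔ ∀ (T : Over S) (g : (yon S).obj T ⟶ F), IsClosed (Points.map g ⁻¹' W) := by
  rw [← isOpen_compl_iff, isOpen_iff_map]
  exact forall_congr' fun T => forall_congr' fun g => by
    rw [Set.preimage_compl, isOpen_compl_iff]

/-- the open subscheme as an object over `S` -/
noncomputable abbrev res (T : Over S) (U : T.left.Opens) : Over S := Over.mk (U.ι ≫ T.hom)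

noncomputable abbrev resι (T : Over S) (U : T.left.Opens) : res T U ⟶ T := Over.homMk U.ι rfl

/-- openness is tested on maps from affine schemes -/
theorem isOpen_of_affine {W : Set (Points F)}
    (h : ∀ (T : Over S), IsAffine T.left → ∀ (g : (yon S).obj T ⟶ F), IsOpen (Points.map g ⁻¹' W)) :
    IsOpen W := by
  rw [Points.isOpen_iff]
  intro T g
  rw [isOpen_iff_forall_mem_open]
  intro t ht
  obtain ⟨_, ⟨U', hU0, rfl⟩, htU, -⟩ :=
    T.left.isBasis_affineOpens.exists_subset_of_mem_open (Set.mem_univ t) isOpen_univ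
  let U : T.left.Opens := U'
  have hU : IsAffineOpen U := hU0
  have hU' : IsAffine (res T U).left := hU
  have h1 := h (res T U) hU' ((yon S).map (resι T U) ≫ g)
  have h2 : IsOpen (U.ι '' (Points.schemeHomeo (res T U) ⁻¹'
      (Points.map ((yon S).map (resι T U) ≫ g) ⁻¹' W))) :=
    U.ι.isOpenEmbedding.isOpenMap _ (h1.preimage (Points.schemeHomeo _).continuous)
  refine ⟨_, ?_, h2, ?_⟩
  · rintro _ ⟨s, hs, rfl⟩
    simp only [Set.mem_preimage, Points.map_comp, Points.map_yon_map_apply] at hs
    change Points.ofPt g (U.ι s) ∈ W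
    rw [Points.ofPt_eq_map_ofScheme]
    exact hs
  · let t' : ↥(res T U).left := show ↥U from ⟨t, htU⟩
    refine ⟨t', ?_, rfl⟩
    change Points.map ((yon S).map (resι T U) ≫ g) (Points.schemeHomeo (res T U) t') ∈ W
    rw [Points.map_comp, Points.map_yon_map_apply]
    rw [Set.mem_preimage, Points.ofPt_eq_map_ofScheme] at ht
    exact ht

theorem isClosed_of_affine {W : Set (Points F)}
    (h : ∀ (T : Over S), IsAffine T.left → ∀ (g : (yon S).obj T ⟶ F), IsClosed (Points.map g ⁻¹' W)) :
    IsClosed W := by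
  rw [← isOpen_compl_iff]
  refine isOpen_of_affine fun T hT g => ?_
  rw [Set.preimage_compl, isOpen_compl_iff]
  exact h T hT g

/-- open maps are tested after base change to affine schemes -/
theorem isOpenMap_of_affine {f : F ⟶ G}
    (h : ∀ (Z : Over S), IsAffine Z.left → ∀ (g : (yon S).obj Z ⟶ G), ∃ (P : Sp S)
      (fst : P ⟶ F) (snd : P ⟶ (yon S).obj Z), IsPullback fst snd f g ∧ IsOpenMap (Points.map snd)) :
    IsOpenMap (Points.map f) := by
  intro W hW
  refine isOpen_of_affine fun T hT g => ?_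
  obtain ⟨P, fst, snd, sq, ho⟩ := h T hT g
  rw [preimage_image sq]
  exact ho _ (hW.preimage (Points.continuous_map fst))

theorem isClosedMap_of_affine {f : F ⟶ G}
    (h : ∀ (Z : Over S), IsAffine Z.left → ∀ (g : (yon S).obj Z ⟶ G), ∃ (P : Sp S)
      (fst : P ⟶ F) (snd : P ⟶ (yon S).obj Z), IsPullback fst snd f g ∧ IsClosedMap (Points.map snd)) :
    IsClosedMap (Points.map f) := by
  intro W hW
  refine isClosed_of_affine fun T hT g => ?_
  obtain ⟨P, fst, snd, sq, ho⟩ := h T hT g
  rw [preimage_image sq]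
  exact ho _ (hW.preimage (Points.continuous_map fst))

/-- A map of sheaves which is surjective on points and whose base changes to affine schemes are quotient
maps on points is a quotient map on points. -/
theorem isQuotientMap_of_affine {f : F ⟶ G}
    (h : ∀ (Z : Over S), IsAffine Z.left → ∀ (g : (yon S).obj Z ⟶ G), ∃ (P : Sp S)
      (fst : P ⟶ F) (snd : P ⟶ (yon S).obj Z), IsPullback fst snd f g ∧ IsQuotientMap (Points.map snd)) :
    IsQuotientMap (Points.map f) := by
  refine ⟨.of_isOpen_preimage_iff_isOpen fun W =>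
    ⟨fun hW => ?_, fun hW => hW.preimage (Points.continuous_map f)⟩, fun y => ?_⟩
  rotate_left
  · obtain ⟨K, _, str, g, rfl⟩ := exists_fpt y
    obtain ⟨P, fst, snd, sq, hq⟩ := h (Over.mk str) (by dsimp; infer_instance) g
    obtain ⟨z, hz⟩ := hq.surjective (fpt (𝟙 _))
    refine ⟨Points.map fst z, ?_⟩
    rw [← Points.map_comp, sq.w, Points.map_comp, hz, map_fpt, Category.id_comp]
  · refine isOpen_of_affine fun T hT g => ?_
    obtain ⟨P, fst, snd, sq, hq⟩ := h T hT g
    rw [← hq.isCoinducing.isOpen_preimage]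
    have := hW.preimage (Points.continuous_map fst)
    rw [← Set.preimage_comp] at this ⊢
    have e : (Points.map g) ∘ (Points.map snd) = (Points.map f) ∘ (Points.map fst) := by
      funext z
      simp only [Function.comp_apply, ← Points.map_comp, sq.w]
    rw [e]
    exact this

end K596.Pts
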