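import Groth.Agent.AlgSp.K596.Pts
import Groth.Prelude.Def_SGA1
import Mathlib.AlgebraicGeometry.Morphisms.UniversallyClosed
import Mathlib.AlgebraicGeometry.Morphisms.UniversallyOpen
import Mathlib.CategoryTheory.Limits.Constructions.Over.Connected

set_option autoImplicit false
universe u
open CategoryTheory CategoryTheory.Limits AlgebraicGeometry Opposite Topology

namespace K596.Univ

open AlgSp K596.Pts

variable {S : Scheme.{u}} {F G H P : Sp S}

theorem isPullback_over {A B C D : Over S} {fst : A ⟶ B} {snd : A ⟶ C} {f : B ⟶ D} {g : C ⟶ D}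
    (h : fst ≫ f = snd ≫ g) (sq : IsPullback fst.left snd.left f.left g.left) :
    IsPullback fst snd f g :=
  IsPullback.of_map (Over.forget S) h sq

/-- a topological property of the underlying map of `φ` is the same for `h_φ` -/
theorem isClosedMap_yon_map_iff {T T' : Over S} (φ : T ⟶ T') :
    IsClosedMap (Points.map ((yon S).map φ)) ↔ IsClosedMap φ.left := by
  rw [Points.map_yon_map_eq]
  constructor
  · intro h
    have h2 := (Points.schemeHomeo T').symm.isClosedMap.comp (h.comp (Points.schemeHomeo T).isClosedMap)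
    convert h2 using 1
    funext t
    simp
  · intro h
    exact (Points.schemeHomeo T').isClosedMap.comp (h.comp (Points.schemeHomeo T).symm.isClosedMap)

theorem isOpenMap_yon_map_iff {T T' : Over S} (φ : T ⟶ T') :
    IsOpenMap (Points.map ((yon S).map φ)) ↔ IsOpenMap φ.left := by
  rw [Points.map_yon_map_eq]
  constructor
  · intro h
    have h2 := (Points.schemeHomeo T').symm.isOpenMap.comp (h.comp (Points.schemeHomeo T).isOpenMap)
    convert h2 using 1
    funext t
    simp
  · intro h
    exact (Points.schemeHomeo T').isOpenMap.comp (h.comp (Points.schemeHomeo T).symm.isOpenMap)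

theorem isQuotientMap_yon_map_iff {T T' : Over S} (φ : T ⟶ T') :
    IsQuotientMap (Points.map ((yon S).map φ)) ↔ IsQuotientMap φ.left := by
  rw [Points.map_yon_map_eq]
  constructor
  · intro h
    have h2 := (Points.schemeHomeo T').symm.isQuotientMap.comp (h.comp (Points.schemeHomeo T).isQuotientMap)
    convert h2 using 1
    funext t
    simp
  · intro h
    exact (Points.schemeHomeo T').isQuotientMap.comp (h.comp (Points.schemeHomeo T).symm.isQuotientMap)

/-- Base change along a scheme of a representable morphism is given by a scheme. -/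
theorem repWith_of_universally {Q : MorphismProperty Scheme.{u}} {f : F ⟶ G} (hf : Representable f)
    (h : ∀ ⦃U V : Over S⦄ (g : (yon S).obj U ⟶ G) (fst : (yon S).obj V ⟶ F) (snd : V ⟶ U),
      IsPullback fst ((yon S).map snd) f g → Q snd.left) :
    RepWith Q.universally f := by
  refine ⟨hf, fun U V g fst snd sq X' Y' i₁' i₂' f' hsq' => ?_⟩
  let i₁ : X' ⟶ V.left := i₁'
  let i₂ : Y' ⟶ U.left := i₂'
  have hsq : IsPullback i₁ f' snd.left i₂ := hsq'.flip
  let Y'' : Over S := Over.mk (i₂ ≫ U.hom)
  let X'' : Over S := Over.mk (i₁ ≫ V.hom)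
  have hw := hsq.w
  let p : X'' ⟶ Y'' := Over.homMk f' (by
    change f' ≫ i₂ ≫ U.hom = i₁ ≫ V.hom
    rw [← Over.w snd, ← Category.assoc, ← Category.assoc, hw])
  let a : X'' ⟶ V := Over.homMk i₁ rfl
  let b : Y'' ⟶ U := Over.homMk i₂ rfl
  have hab : a ≫ snd = p ≫ b := Over.OverMorphism.ext hw
  have sq1 : IsPullback a p snd b := isPullback_over hab hsq
  have sq2 := sq1.map (yon S)
  exact h _ _ p (sq2.paste_horiz sq)

/-- Topological test: a representable morphism which is universally closed in the representable sense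
is closed on points. -/
theorem isClosedMap_of_repWith {f : F ⟶ G} (hf : RepWith @UniversallyClosed f) :
    IsClosedMap (Points.map f) := by
  refine isClosedMap_of_affine fun Z _ g => ?_
  obtain ⟨V, snd, fst, sq⟩ := hf.1 g
  have hs : UniversallyClosed snd.left := hf.2 g fst snd sq
  exact ⟨_, fst, _, sq, (isClosedMap_yon_map_iff snd).2 snd.left.isClosedMap⟩

theorem isOpenMap_of_repWith {f : F ⟶ G} (hf : RepWith @UniversallyOpen f) :
    IsOpenMap (Points.map f) := by
  refine isOpenMap_of_affine fun Z _ g => ?_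
  obtain ⟨V, snd, fst, sq⟩ := hf.1 g
  have hs : UniversallyOpen snd.left := hf.2 g fst snd sq
  exact ⟨_, fst, _, sq, (isOpenMap_yon_map_iff snd).2 snd.left.isOpenMap⟩

theorem isQuotientMap_of_repWith {f : F ⟶ G} (hf : RepWith SGA1.UnivSubmersive f) :
    IsQuotientMap (Points.map f) := by
  refine isQuotientMap_of_affine fun Z _ g => ?_
  obtain ⟨V, snd, fst, sq⟩ := hf.1 g
  have hs : SGA1.UnivSubmersive snd.left := hf.2 g fst snd sq
  exact ⟨_, fst, _, sq, (isQuotientMap_yon_map_iff snd).2 (hs _ _ _ (IsPullback.id_vert _))⟩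

theorem repWith_universallyClosed_iff {f : F ⟶ G} (hf : Representable f) :
    RepWith @UniversallyClosed f ↔ IsUnivClosedMor f := by
  constructor
  · intro h Z Z' hZ g fst snd sq
    exact isClosedMap_of_repWith (MorphismProperty.of_isPullback (P := RepWith _) sq h)
  · intro h
    have := repWith_of_universally (Q := topologically @IsClosedMap) hf
      (fun U V g fst snd sq => (isClosedMap_yon_map_iff snd).1 (h (IsAlgSpace.yon_obj U) g fst _ sq))
    rwa [← universallyClosed_eq] at this

theorem repWith_universallyOpen_iff {f : F ⟶ G} (hf : Representable f) :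
    RepWith @UniversallyOpen f ↔ IsUnivOpenMor f := by
  constructor
  · intro h Z Z' hZ g fst snd sq
    exact isOpenMap_of_repWith (MorphismProperty.of_isPullback (P := RepWith _) sq h)
  · intro h
    have := repWith_of_universally (Q := topologically @IsOpenMap) hf
      (fun U V g fst snd sq => (isOpenMap_yon_map_iff snd).1 (h (IsAlgSpace.yon_obj U) g fst _ sq))
    rwa [← UniversallyOpen.eq] at this

theorem repWith_univSubmersive_iff {f : F ⟶ G} (hf : Representable f) :
    RepWith SGA1.UnivSubmersive f ↔ IsUnivSubmersiveMor f := by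
  constructor
  · intro h Z Z' hZ g fst snd sq
    exact isQuotientMap_of_repWith (MorphismProperty.of_isPullback (P := RepWith _) sq h)
  · intro h
    exact repWith_of_universally hf
      (fun U V g fst snd sq => (isQuotientMap_yon_map_iff snd).1 (h (IsAlgSpace.yon_obj U) g fst _ sq))

/-! ### tests on affine schemes -/

theorem isUnivClosedMor_of_affine {f : F ⟶ G}
    (h : ∀ (Z : Over S), IsAffine Z.left → ∀ (g : (yon S).obj Z ⟶ G), ∃ (P : Sp S)
        (fst : P ⟶ F) (snd : P ⟶ (yon S).obj Z), IsPullback fst snd f g ∧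
        IsClosedMap (Points.map snd)) : IsUnivClosedMor f := by
  intro Z Z' hZ g fst snd sq
  refine isClosedMap_of_affine fun T hT g' => ?_
  obtain ⟨P, fst', snd', sq', h'⟩ := h T hT (g' ≫ g)
  have w : fst' ≫ f = (snd' ≫ g') ≫ g := by rw [sq'.w, Category.assoc]
  refine ⟨P, sq.lift fst' (snd' ≫ g') w, snd', ?_, h'⟩
  refine IsPullback.of_right (h₁₂ := fst) (h₂₂ := g) (v₁₃ := f) ?_ (sq.lift_snd _ _ w) sq
  rw [sq.lift_fst]
  exact sq'

theorem isUnivOpenMor_of_affine {f : F ⟶ G}
    (h : ∀ (Z : Over S), IsAffine Z.left → ∀ (g : (yon S).obj Z ⟶ G), ∃ (P : Sp S)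
        (fst : P ⟶ F) (snd : P ⟶ (yon S).obj Z), IsPullback fst snd f g ∧
        IsOpenMap (Points.map snd)) : IsUnivOpenMor f := by
  intro Z Z' hZ g fst snd sq
  refine isOpenMap_of_affine fun T hT g' => ?_
  obtain ⟨P, fst', snd', sq', h'⟩ := h T hT (g' ≫ g)
  have w : fst' ≫ f = (snd' ≫ g') ≫ g := by rw [sq'.w, Category.assoc]
  refine ⟨P, sq.lift fst' (snd' ≫ g') w, snd', ?_, h'⟩
  refine IsPullback.of_right (h₁₂ := fst) (h₂₂ := g) (v₁₃ := f) ?_ (sq.lift_snd _ _ w) sq
  rw [sq.lift_fst]
  exact sq'

theorem isUnivSubmersiveMor_of_affine {f : F ⟶ G}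
    (h : ∀ (Z : Over S), IsAffine Z.left → ∀ (g : (yon S).obj Z ⟶ G), ∃ (P : Sp S)
        (fst : P ⟶ F) (snd : P ⟶ (yon S).obj Z), IsPullback fst snd f g ∧
        IsQuotientMap (Points.map snd)) : IsUnivSubmersiveMor f := by
  intro Z Z' hZ g fst snd sq
  refine isQuotientMap_of_affine fun T hT g' => ?_
  obtain ⟨P, fst', snd', sq', h'⟩ := h T hT (g' ≫ g)
  have w : fst' ≫ f = (snd' ≫ g') ≫ g := by rw [sq'.w, Category.assoc]
  refine ⟨P, sq.lift fst' (snd' ≫ g') w, snd', ?_, h'⟩
  refine IsPullback.of_right (h₁₂ := fst) (h₂₂ := g) (v₁₃ := f) ?_ (sq.lift_snd _ _ w) sq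
  rw [sq.lift_fst]
  exact sq'

theorem isUnivClosedMor_iff_affine (f : F ⟶ G) :
    IsUnivClosedMor f ↔
      ∀ (Z : Over S), IsAffine Z.left → ∀ (g : (yon S).obj Z ⟶ G) (P : Sp S)
        (fst : P ⟶ F) (snd : P ⟶ (yon S).obj Z), IsPullback fst snd f g →
        IsClosedMap (Points.map snd) :=
  ⟨fun h _ _ g _ fst snd sq => h (IsAlgSpace.yon_obj _) g fst snd sq,
    fun h => isUnivClosedMor_of_affine fun Z hZ g =>
      ⟨_, _, _, IsPullback.of_hasPullback f g, h Z hZ g _ _ _ (IsPullback.of_hasPullback f g)⟩⟩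

theorem isUnivOpenMor_iff_affine (f : F ⟶ G) :
    IsUnivOpenMor f ↔
      ∀ (Z : Over S), IsAffine Z.left → ∀ (g : (yon S).obj Z ⟶ G) (P : Sp S)
        (fst : P ⟶ F) (snd : P ⟶ (yon S).obj Z), IsPullback fst snd f g →
        IsOpenMap (Points.map snd) :=
  ⟨fun h _ _ g _ fst snd sq => h (IsAlgSpace.yon_obj _) g fst snd sq,
    fun h => isUnivOpenMor_of_affine fun Z hZ g =>
      ⟨_, _, _, IsPullback.of_hasPullback f g, h Z hZ g _ _ _ (IsPullback.of_hasPullback f g)⟩⟩

/-! ### descent along quotient maps -/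

theorem isClosedMap_of_isQuotientMap {fst : P ⟶ F} {snd : P ⟶ G} {f : F ⟶ H} {g : G ⟶ H}
    (sq : IsPullback fst snd f g) (hg : IsQuotientMap (Points.map g))
    (h : IsClosedMap (Points.map snd)) : IsClosedMap (Points.map f) := by
  intro D hD
  rw [← hg.isCoinducing.isClosed_preimage, preimage_image sq]
  exact h _ (hD.preimage (Points.continuous_map fst))

theorem isOpenMap_of_isQuotientMap {fst : P ⟶ F} {snd : P ⟶ G} {f : F ⟶ H} {g : G ⟶ H}
    (sq : IsPullback fst snd f g) (hg : IsQuotientMap (Points.map g))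
    (h : IsOpenMap (Points.map snd)) : IsOpenMap (Points.map f) := by
  intro D hD
  rw [← hg.isCoinducing.isOpen_preimage, preimage_image sq]
  exact h _ (hD.preimage (Points.continuous_map fst))

theorem isQuotientMap_of_isQuotientMap {fst : P ⟶ F} {snd : P ⟶ G} {f : F ⟶ H} {g : G ⟶ H}
    (sq : IsPullback fst snd f g) (hg : IsQuotientMap (Points.map g))
    (h : IsQuotientMap (Points.map snd)) : IsQuotientMap (Points.map f) := by
  have e : (Points.map f) ∘ (Points.map fst) = (Points.map g) ∘ (Points.map snd) := by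
    funext z
    simp only [Function.comp_apply, ← Points.map_comp, sq.w]
  have h1 : IsQuotientMap ((Points.map f) ∘ (Points.map fst)) := by
    rw [e]
    exact hg.comp h
  exact IsQuotientMap.of_comp (Points.continuous_map _) (Points.continuous_map _) h1

/-- representable, surjective and universally open maps are quotient maps on points -/
theorem isQuotientMap_of_surjective_of_open {f : F ⟶ G} (hs : RepWith @Surjective f)
    (ho : RepWith @UniversallyOpen f) : IsQuotientMap (Points.map f) :=
  (isOpenMap_of_repWith ho).isQuotientMap (Points.continuous_map f) (surjective_of_repWith hs)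

theorem repWith_mono {Q Q' : MorphismProperty Scheme.{u}} (h : Q ≤ Q') {f : F ⟶ G}
    (hf : RepWith Q f) : RepWith Q' f :=
  ⟨hf.1, fun _ _ g fst snd sq => h _ (hf.2 g fst snd sq)⟩

theorem repWith_universallyOpen_of_etale {f : F ⟶ G} (hf : RepWith @Etale f) :
    RepWith @UniversallyOpen f :=
  repWith_mono (fun _ _ g (_ : Etale g) => show UniversallyOpen g from inferInstance) hf

theorem isQuotientMap_of_etale {f : F ⟶ G} (hs : RepWith @Surjective f)
    (he : RepWith @Etale f) : IsQuotientMap (Points.map f) :=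
  isQuotientMap_of_surjective_of_open hs (repWith_universallyOpen_of_etale he)

/-- Descent of universal closedness along a representable, surjective and universally open base change
from a scheme. -/
theorem isUnivClosedMor_of_cover {f : F ⟶ G} {V : Over S} (p : (yon S).obj V ⟶ G)
    (hp : RepWith @UniversallyOpen p) (hps : RepWith @Surjective p)
    {fst : P ⟶ F} {snd : P ⟶ (yon S).obj V} (sq : IsPullback fst snd f p)
    (h : IsUnivClosedMor snd) : IsUnivClosedMor f := by
  rw [isUnivClosedMor_iff_affine]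
  intro Z hZ g P' fst' snd' sq'
  -- Z₁ = Z ×_G V
  obtain ⟨Z₁, b, a, sqZ⟩ := hp.1 g
  have ha : RepWith @UniversallyOpen ((yon S).map b) :=
    MorphismProperty.of_isPullback (P := RepWith _) sqZ hp
  have has : RepWith @Surjective ((yon S).map b) :=
    MorphismProperty.of_isPullback (P := RepWith _) sqZ hps
  -- the base change of `snd'` to `Z₁`
  have sq2 := IsPullback.of_hasPullback snd' ((yon S).map b)
  refine isClosedMap_of_isQuotientMap sq2 (isQuotientMap_of_surjective_of_open has ha) ?_
  have sq3 := sq2.paste_horiz sq'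
  have w : (pullback.fst snd' ((yon S).map b) ≫ fst') ≫ f =
      (pullback.snd snd' ((yon S).map b) ≫ a) ≫ p := by
    rw [sq3.w, Category.assoc, sqZ.w]
  refine h (IsAlgSpace.yon_obj Z₁) a (sq.lift _ _ w) _ ?_
  refine IsPullback.of_right (h₁₂ := fst) (h₂₂ := p) (v₁₃ := f) ?_ (sq.lift_snd _ _ w) sq
  rw [sq.lift_fst, sqZ.w]
  exact sq3

theorem isUnivOpenMor_of_cover {f : F ⟶ G} {V : Over S} (p : (yon S).obj V ⟶ G)
    (hp : RepWith @UniversallyOpen p) (hps : RepWith @Surjective p)
    {fst : P ⟶ F} {snd : P ⟶ (yon S).obj V} (sq : IsPullback fst snd f p)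
    (h : IsUnivOpenMor snd) : IsUnivOpenMor f := by
  rw [isUnivOpenMor_iff_affine]
  intro Z hZ g P' fst' snd' sq'
  obtain ⟨Z₁, b, a, sqZ⟩ := hp.1 g
  have ha : RepWith @UniversallyOpen ((yon S).map b) :=
    MorphismProperty.of_isPullback (P := RepWith _) sqZ hp
  have has : RepWith @Surjective ((yon S).map b) :=
    MorphismProperty.of_isPullback (P := RepWith _) sqZ hps
  have sq2 := IsPullback.of_hasPullback snd' ((yon S).map b)
  refine isOpenMap_of_isQuotientMap sq2 (isQuotientMap_of_surjective_of_open has ha) ?_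
  have sq3 := sq2.paste_horiz sq'
  have w : (pullback.fst snd' ((yon S).map b) ≫ fst') ≫ f =
      (pullback.snd snd' ((yon S).map b) ≫ a) ≫ p := by
    rw [sq3.w, Category.assoc, sqZ.w]
  refine h (IsAlgSpace.yon_obj Z₁) a (sq.lift _ _ w) _ ?_
  refine IsPullback.of_right (h₁₂ := fst) (h₂₂ := p) (v₁₃ := f) ?_ (sq.lift_snd _ _ w) sq
  rw [sq.lift_fst, sqZ.w]
  exact sq3

/-- if `a` is representable and surjective and `a ≫ f` is universally open, then so is `f` -/
theorem isUnivOpenMor_of_precomp {f : F ⟶ G} {a : H ⟶ F} (ha : RepWith @Surjective a)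
    (h : IsUnivOpenMor (a ≫ f)) : IsUnivOpenMor f := by
  intro Z Z' hZ g fst snd sq
  have sq1 := IsPullback.of_hasPullback a fst
  have h1 := h hZ g _ _ (sq1.paste_vert sq)
  have hs : RepWith @Surjective (pullback.snd a fst) :=
    MorphismProperty.of_isPullback (P := RepWith _) sq1 ha
  change IsOpenMap (Points.map _) at h1
  have e : Points.map (pullback.snd a fst ≫ snd) = Points.map snd ∘ Points.map (pullback.snd a fst) := by
    funext z
    exact Points.map_comp _ _ _
  rw [e] at h1
  exact IsOpenMap.of_comp (Points.continuous_map _) (surjective_of_repWith hs) h1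

end K596.Univ
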