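import Groth.Agent.AlgSp.K609.QC
import Groth.Agent.AlgSp.K613.Diag
import Groth.Agent.AlgSp.K596.Univ

set_option autoImplicit false
universe u
open CategoryTheory CategoryTheory.Limits AlgebraicGeometry Opposite Topology TopologicalSpace

namespace K596.QC

open AlgSp K596.Pts K596.Univ

variable {S : Scheme.{u}} {F G H P : Sp S}

/-- a scheme which is quasi-compact is a quasi-compact space -/
theorem isQuasiCompactSp_yon (U : Over S) [CompactSpace ↥U.left] : IsQuasiCompactSp ((yon S).obj U) :=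
  ⟨U, 𝟙 _, (K613.Chart.Ch.id U).et, (K613.Chart.Ch.id U).surj, inferInstance⟩

theorem compactSpace_of_isQuasiCompactSp {U : Over S} (h : IsQuasiCompactSp ((yon S).obj U)) :
    CompactSpace ↥U.left :=
  have := K609.QC.compactSpace_points h
  (Points.schemeHomeo U).symm.compactSpace

theorem surjective_ofPt {U : Over S} (a : (yon S).obj U ⟶ F) (ha : Function.Surjective (Points.map a)) :
    Function.Surjective (Points.ofPt a) :=
  (K609.Points.surjective_ofPt_iff a).2 ha

/-- surjectivity on points transports quasi-compactness -/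
theorem isQuasiCompactSp_of_surjective (hG : IsAlgSpace G) (f : F ⟶ G)
    (hf : Function.Surjective (Points.map f)) (hF : CompactSpace (Points F)) : IsQuasiCompactSp G := by
  have : CompactSpace (Points G) := Function.Surjective.compactSpace (Points.continuous_map f) hf
  exact K609.QC.isQuasiCompactSp_of_compactSpace hG

/-- A compact open of the points of an algebraic space is the image of a quasi-compact etale chart. -/
theorem exists_chart_range (hF : IsAlgSpace F) {V : Set (Points F)} (hV : IsOpen V) (hVc : IsCompact V) :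
    ∃ (T : Over S) (g : (yon S).obj T ⟶ F), CompactSpace ↥T.left ∧ RepWith @Etale g ∧
      Set.range (Points.map g) = V := by
  obtain ⟨U, p, hp, hs⟩ := hF.atlas
  have hsurj := K609.Points.surjective_ofPt_of_repWith_surjective hs
  let VU : U.left.Opens := ⟨Points.ofPt p ⁻¹' V, hV.preimage (Points.continuous_ofPt p)⟩
  have hU : ∀ u : ↥U.left, u ∈ VU → ∃ A : U.left.affineOpens, u ∈ A.1 ∧ A.1 ≤ VU := fun u hu => by
    obtain ⟨A, hA, hu, hA'⟩ := exists_isAffineOpen_mem_and_subset (X := U.left) (x := u) (U := VU) hu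
    exact ⟨⟨A, hA⟩, hu, hA'⟩
  let ι := { A : U.left.affineOpens // A.1 ≤ VU }
  obtain ⟨t, ht⟩ := hVc.elim_finite_subcover
    (fun A : ι => Points.ofPt p '' (A.1.1 : Set ↥U.left))
    (fun A => K609.Points.isOpenMap_ofPt hp _ A.1.1.isOpen)
    (fun x hx => by
      obtain ⟨u, rfl⟩ := hsurj x
      obtain ⟨A, hA, hA'⟩ := hU u hx
      exact Set.mem_iUnion.2 ⟨⟨A, hA'⟩, u, hA, rfl⟩)
  let W : U.left.Opens := ⨆ A ∈ t, A.1.1
  have hW : IsCompact (W : Set ↥U.left) := by
    simp only [W, Opens.coe_iSup]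
    exact t.finite_toSet.isCompact_biUnion fun A _ => A.1.2.isCompact
  have hWV : ∀ w : ↥U.left, w ∈ W → Points.ofPt p w ∈ V := by
    intro w hw
    simp only [W, Opens.mem_iSup] at hw
    obtain ⟨A, -, hw⟩ := hw
    exact A.2 hw
  have hVW : ∀ x ∈ V, ∃ w : ↥U.left, w ∈ W ∧ Points.ofPt p w = x := by
    intro x hx
    obtain ⟨A, hA, u, hu, rfl⟩ := Set.mem_iUnion₂.1 (ht hx)
    have huW : u ∈ W := by
      simp only [W, Opens.mem_iSup]
      exact ⟨A, hA, hu⟩
    exact ⟨u, huW, rfl⟩
  refine ⟨res U W, (yon S).map (resι U W) ≫ p, isCompact_iff_compactSpace.1 hW, ?_, ?_⟩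
  · exact K609.QC.repWith_yon_map_comp _ (resι U W) (show Etale W.ι from inferInstance) hp
  · ext x
    constructor
    · rintro ⟨y, rfl⟩
      obtain ⟨w, rfl⟩ := (Points.schemeHomeo (res U W)).surjective y
      rw [Points.map_comp, Points.map_yon_map_apply]
      have := hWV (W.ι w) w.2
      rw [Points.ofPt_eq_map_ofScheme] at this
      exact this
    · intro hx
      obtain ⟨w, hw, rfl⟩ := hVW x hx
      let w' : ↥(res U W).left := show ↥W from ⟨w, hw⟩
      refine ⟨Points.schemeHomeo _ w', ?_⟩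
      rw [Points.map_comp, Points.map_yon_map_apply, Points.ofPt_eq_map_ofScheme]
      rfl

/-- Representable quasi-compact maps are quasi-compact. -/
theorem isQuasiCompactSp_of_repWith {Z Z' : Sp S} (hZ : IsQuasiCompactSp Z) {g : Z' ⟶ Z}
    (hg : RepWith @QuasiCompact g) : IsQuasiCompactSp Z' := by
  obtain ⟨U, p, hp, hs, hU⟩ := hZ
  obtain ⟨V, snd, fst, sq⟩ := hg.1 p
  have hq : QuasiCompact snd.left := hg.2 _ _ _ sq
  refine ⟨V, fst, MorphismProperty.of_isPullback (P := RepWith _) sq.flip hp,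
    MorphismProperty.of_isPullback (P := RepWith _) sq.flip hs, ?_⟩
  have : CompactSpace ↥U.left := hU
  exact QuasiCompact.compactSpace_of_compactSpace snd.left

theorem isQuasiCompactMor_of_repWith {f : F ⟶ G} (hf : RepWith @QuasiCompact f) :
    IsQuasiCompactMor f := fun _ _ _ hZ _ _ _ sq =>
  isQuasiCompactSp_of_repWith hZ (MorphismProperty.of_isPullback (P := RepWith _) sq hf)

theorem repWith_of_isQuasiCompactMor {f : F ⟶ G} (hf : Representable f) (h : IsQuasiCompactMor f) :
    RepWith @QuasiCompact f := by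
  refine ⟨hf, fun U V g fst snd sq => ?_⟩
  change QuasiCompact snd.left
  rw [quasiCompact_iff_forall_isAffineOpen]
  intro W hW
  have : IsAffine (res U W).left := hW
  have sq1 : IsPullback (resι V (snd.left ⁻¹ᵁ W))
      (Over.homMk (snd.left ∣_ W) (by
        change (snd.left ∣_ W) ≫ W.ι ≫ U.hom = (snd.left ⁻¹ᵁ W).ι ≫ V.hom
        rw [← Over.w snd, ← Category.assoc, morphismRestrict_ι, Category.assoc]) :
        res V (snd.left ⁻¹ᵁ W) ⟶ res U W) snd (resι U W) := by
    refine isPullback_over (Over.OverMorphism.ext ?_) ?_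
    · exact (morphismRestrict_ι snd.left W).symm
    · exact (isPullback_morphismRestrict snd.left W).flip
  have h1 := h (IsAlgSpace.yon_obj (res U W)) (isQuasiCompactSp_yon _) _ _ _
    ((sq1.map (yon S)).paste_horiz sq)
  have h2 := compactSpace_of_isQuasiCompactSp h1
  exact isCompact_iff_compactSpace.2 h2

theorem repWith_quasiCompact_iff {f : F ⟶ G} (hf : Representable f) :
    RepWith @QuasiCompact f ↔ IsQuasiCompactMor f :=
  ⟨isQuasiCompactMor_of_repWith, repWith_of_isQuasiCompactMor hf⟩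

/-! ### base change, composition -/

theorem isPullback_lift_right {X Y Z : Sp S} {f : X ⟶ Z} {g : Y ⟶ Z} {fst : P ⟶ X} {snd : P ⟶ Y}
    (sq : IsPullback fst snd f g) {T Q : Sp S} {t : T ⟶ Y} {a : Q ⟶ X} {b : Q ⟶ T}
    (sq' : IsPullback a b f (t ≫ g)) :
    ∃ c : Q ⟶ P, c ≫ fst = a ∧ IsPullback c b snd t := by
  have w : a ≫ f = (b ≫ t) ≫ g := by rw [sq'.w, Category.assoc]
  refine ⟨sq.lift a (b ≫ t) w, sq.lift_fst _ _ _, ?_⟩
  refine IsPullback.of_right (h₁₂ := fst) (h₂₂ := g) (v₁₃ := f) ?_ (sq.lift_snd _ _ w) sq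
  rw [sq.lift_fst]
  exact sq'

theorem isQuasiCompactMor_of_isPullback {X Y Z : Sp S} {f : X ⟶ Z} {g : Y ⟶ Z} {fst : P ⟶ X} {snd : P ⟶ Y}
    (sq : IsPullback fst snd f g) (hf : IsQuasiCompactMor f) : IsQuasiCompactMor snd :=
  fun _ _ hT hTc t _ _ sqT => hf hT hTc (t ≫ g) _ _ (sqT.paste_horiz sq)

theorem isQuasiCompactMor_comp {X Y Z : Sp S} (hY : IsAlgSpace Y) (hZ : IsAlgSpace Z)
    {f : X ⟶ Y} {g : Y ⟶ Z} (hf : IsQuasiCompactMor f) (hg : IsQuasiCompactMor g) :
    IsQuasiCompactMor (f ≫ g) := by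
  intro T Q hT hTc t a b sq
  have sq1 := IsPullback.of_hasPullback g t
  have hp : IsAlgSpace (pullback g t) := K613.Chart.isAlgSpace_pullback hY hT hZ g t
  have h1 := hg hT hTc t _ _ sq1
  have w : (a ≫ f) ≫ g = b ≫ t := by rw [Category.assoc]; exact sq.w
  refine hf hp h1 (pullback.fst g t) a (sq1.lift (a ≫ f) b w) ?_
  refine IsPullback.of_bot ?_ (sq1.lift_fst _ _ w).symm sq1
  rw [sq1.lift_snd]
  exact sq

/-- quasi-compactness tested on affine schemes -/
theorem isQuasiCompactMor_of_affine (hF : IsAlgSpace F) (hG : IsAlgSpace G) {f : F ⟶ G}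
    (h : ∀ (Z : Over S), IsAffine Z.left → ∀ (g : (yon S).obj Z ⟶ G) (P : Sp S)
        (fst : P ⟶ F) (snd : P ⟶ (yon S).obj Z), IsPullback fst snd f g → CompactSpace (Points P)) :
    IsQuasiCompactMor f := by
  intro Z Z' hZ hZc g fst snd sq
  obtain ⟨U, p, hU, hp, hs⟩ := K609.QC.exists_affine_chart hZc
  have sq1 := IsPullback.of_hasPullback snd p
  have h1 := h U hU (p ≫ g) _ _ _ (sq1.paste_horiz sq)
  refine isQuasiCompactSp_of_surjective (K613.Chart.isAlgSpace_of_isPullback hG.diag hF hZ sq)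
    (pullback.fst snd p) ?_ h1
  exact surjective_of_isPullback sq1.flip (surjective_of_repWith hs)

theorem isQuasiCompactMor_iff_affine (hF : IsAlgSpace F) (hG : IsAlgSpace G) (f : F ⟶ G) :
    IsQuasiCompactMor f ↔
      ∀ (Z : Over S), IsAffine Z.left → ∀ (g : (yon S).obj Z ⟶ G) (P : Sp S)
        (fst : P ⟶ F) (snd : P ⟶ (yon S).obj Z), IsPullback fst snd f g → IsQuasiCompactSp P :=
  ⟨fun h _ _ g _ fst snd sq => h (IsAlgSpace.yon_obj _) (isQuasiCompactSp_yon _) g fst snd sq,
    fun h => isQuasiCompactMor_of_affine hF hG fun Z hZ g P fst snd sq =>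
      K609.QC.compactSpace_points (h Z hZ g P fst snd sq)⟩

/-- In a triangle with surjective first map. -/
theorem isQuasiCompactMor_of_surjective_comp {X Y Z : Sp S} (hY : IsAlgSpace Y) (hZ : IsAlgSpace Z)
    {f : X ⟶ Y} {q : Y ⟶ Z} (hf : Function.Surjective (Points.map f)) (hp : IsQuasiCompactMor (f ≫ q)) :
    IsQuasiCompactMor q := by
  intro T Q hT hTc t a b sq
  have sq1 := IsPullback.of_hasPullback f a
  have h1 := hp hT hTc t _ _ (sq1.paste_vert sq)
  refine isQuasiCompactSp_of_surjective (K613.Chart.isAlgSpace_of_isPullback hZ.diag hY hT sq)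
    (pullback.snd f a) (surjective_of_isPullback sq1 hf) (K609.QC.compactSpace_points h1)

/-- Descent along open surjective base change. -/
theorem isQuasiCompactMor_of_univOpen {X Y Y' X' : Sp S} (hX : IsAlgSpace X) (hY : IsAlgSpace Y)
    (hY' : IsAlgSpace Y') {f : X ⟶ Y} {g : Y' ⟶ Y} {fst : X' ⟶ X} {f' : X' ⟶ Y'}
    (sq : IsPullback fst f' f g) (hg : IsUnivOpenMor g) (hgs : Function.Surjective (Points.map g))
    (hf' : IsQuasiCompactMor f') : IsQuasiCompactMor f := by
  intro Z Z' hZ hZc z a b sqZ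
  -- `Y'_Z`
  have sq1 := IsPullback.of_hasPullback g z
  have hopen : IsOpenMap (Points.map (pullback.snd g z)) := hg hZ z _ _ sq1
  have hsurj := surjective_of_isPullback sq1 hgs
  have hYZ : IsAlgSpace (pullback g z) := K613.Chart.isAlgSpace_pullback hY' hZ hY g z
  have hZcc := K609.QC.compactSpace_points hZc
  -- a compact open of `Y'_Z` surjecting onto `Z`
  obtain ⟨V, hV, hVc, hVs⟩ : ∃ V : Set (Points (pullback g z)), IsOpen V ∧ IsCompact V ∧
      Points.map (pullback.snd g z) '' V = Set.univ := by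
    choose V hV hVc hxV _ using fun x => K609.QC.exists_isOpen_isCompact_nhd hYZ x Set.univ isOpen_univ
      (Set.mem_univ x)
    obtain ⟨t, ht⟩ := isCompact_univ.elim_finite_subcover (X := Points Z)
      (fun x => Points.map (pullback.snd g z) '' (V x)) (fun x => hopen _ (hV x))
      (fun y _ => by
        obtain ⟨x, rfl⟩ := hsurj y
        exact Set.mem_iUnion.2 ⟨x, x, hxV x, rfl⟩)
    refine ⟨⋃ x ∈ t, V x, isOpen_biUnion fun x _ => hV x, t.finite_toSet.isCompact_biUnion fun x _ => hVc x, ?_⟩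
    rw [Set.eq_univ_iff_forall]
    intro y
    obtain ⟨x, hx, w, hw, rfl⟩ := Set.mem_iUnion₂.1 (ht (Set.mem_univ y))
    exact ⟨w, Set.mem_iUnion₂.2 ⟨x, hx, hw⟩, rfl⟩
  obtain ⟨T, t, hTc, -, htV⟩ := exists_chart_range hYZ hV hVc
  have hTs : Function.Surjective (Points.map (t ≫ pullback.snd g z)) := by
    intro y
    obtain ⟨x, hx, rfl⟩ : y ∈ Points.map (pullback.snd g z) '' V := hVs ▸ Set.mem_univ y
    rw [← htV] at hx
    obtain ⟨w, rfl⟩ := hx
    exact ⟨w, Points.map_comp _ _ _⟩
  -- X ×_Y T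
  have sq2 := IsPullback.of_hasPullback b (t ≫ pullback.snd g z)
  have sq3 := sq2.paste_horiz sqZ
  have e : (t ≫ pullback.snd g z) ≫ z = (t ≫ pullback.fst g z) ≫ g := by
    rw [Category.assoc, Category.assoc, sq1.w]
  rw [e] at sq3
  obtain ⟨c, -, sq4⟩ := isPullback_lift_right sq sq3
  have h1 := hf' (IsAlgSpace.yon_obj T) (isQuasiCompactSp_yon T) _ _ _ sq4
  exact isQuasiCompactSp_of_surjective (K613.Chart.isAlgSpace_of_isPullback hY.diag hX hZ sqZ)
    (pullback.fst b _) (surjective_of_isPullback sq2.flip hTs) (K609.QC.compactSpace_points h1)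

end K596.QC
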