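import Groth.Agent.AlgSp.K613.Chart
import Groth.Agent.AlgSp.K596.Pts

set_option autoImplicit false
universe u
open CategoryTheory CategoryTheory.Limits AlgebraicGeometry Opposite Topology TopologicalSpace

namespace K596.Mono

open AlgSp K596.Pts

variable {S : Scheme.{u}} {F G H P : Sp S}

/-- A morphism which is representable by monomorphisms is a monomorphism. -/
theorem mono_of_repWith {Q : MorphismProperty Scheme.{u}}
    (hQ : ∀ ⦃X Y : Scheme.{u}⦄ (f : X ⟶ Y), Q f → CategoryTheory.Mono f) {f : F ⟶ G} (hf : RepWith Q f) :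
    CategoryTheory.Mono f := by
  refine K613.Basic.mono_of_injective fun T x y hxy => ?_
  obtain ⟨V, snd, fst, sq⟩ := hf.1 (x ≫ f)
  have h1 : CategoryTheory.Mono snd.left := hQ _ (hf.2 _ _ _ sq)
  have h2 : CategoryTheory.Mono snd := Over.mono_of_mono_left snd
  have hx : x ≫ f = 𝟙 _ ≫ x ≫ f := (Category.id_comp _).symm
  have hy : y ≫ f = 𝟙 _ ≫ x ≫ f := by rw [Category.id_comp, hxy]
  have e : sq.lift x (𝟙 _) hx = sq.lift y (𝟙 _) hy := by
    rw [← cancel_mono ((yon S).map snd), sq.lift_snd, sq.lift_snd]
  rw [← sq.lift_fst x (𝟙 _) hx, e, sq.lift_fst]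

/-- Conversely a representable monomorphism is representable by monomorphisms. -/
theorem repWith_mono_of_mono {f : F ⟶ G} [CategoryTheory.Mono f] (hf : Representable f) :
    RepWith (MorphismProperty.monomorphisms Scheme.{u}) f := by
  refine ⟨hf, fun U V g fst snd sq => ?_⟩
  have h1 : CategoryTheory.Mono ((yon S).map snd) := by
    refine ⟨fun a b hab => sq.hom_ext ?_ hab⟩
    rw [← cancel_mono f, Category.assoc, Category.assoc, sq.w, ← Category.assoc, hab, Category.assoc]
  have h2 : CategoryTheory.Mono snd := (yon S).mono_of_mono_map h1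
  exact (inferInstance : CategoryTheory.Mono ((Over.forget S).map snd))

end K596.Mono
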