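import Groth.Agent.AlgSp.K596.ClosedQC
import Groth.Agent.AlgSp.K596.QC2
import Groth.Agent.AlgSp.K596.Mono
import Groth.Agent.S9900
import Mathlib.AlgebraicGeometry.ZariskisMainTheorem

set_option autoImplicit false
universe u
open CategoryTheory CategoryTheory.Limits AlgebraicGeometry Opposite Topology TopologicalSpace

namespace K596.SepSurj

open AlgSp K596.Pts K596.Univ K596.QC K596.ClosedQC

variable {S : Scheme.{u}} {F G H P : Sp S}

theorem isUnivClosedMor_comp {X Y Z : Sp S} (hY : IsAlgSpace Y) (hZ : IsAlgSpace Z)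
    {f : X ⟶ Y} {g : Y ⟶ Z} (hf : IsUnivClosedMor f) (hg : IsUnivClosedMor g) :
    IsUnivClosedMor (f ≫ g) := by
  intro T Q hT t a b sq
  have sq1 := IsPullback.of_hasPullback g t
  have hp : IsAlgSpace (pullback g t) := K613.Chart.isAlgSpace_pullback hY hT hZ g t
  have h1 := hg hT t _ _ sq1
  have w : (a ≫ f) ≫ g = b ≫ t := by rw [Category.assoc]; exact sq.w
  have sq2 : IsPullback a (sq1.lift (a ≫ f) b w) f (pullback.fst g t) := by
    refine IsPullback.of_bot ?_ (sq1.lift_fst _ _ w).symm sq1
    rw [sq1.lift_snd]
    exact sq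
  have h2 := hf hp (pullback.fst g t) a _ sq2
  change IsClosedMap (Points.map b)
  have e : Points.map b = Points.map (pullback.snd g t) ∘ Points.map (sq1.lift (a ≫ f) b w) := by
    funext z
    rw [Function.comp_apply, ← Points.map_comp, sq1.lift_snd]
  rw [e]
  exact IsClosedMap.comp h1 h2

/-- if `a` is surjective on points and `a ≫ f` is universally closed, then so is `f` -/
theorem isUnivClosedMor_of_precomp {f : F ⟶ G} {a : H ⟶ F} (ha : Function.Surjective (Points.map a))
    (h : IsUnivClosedMor (a ≫ f)) : IsUnivClosedMor f := by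
  intro Z Z' hZ g fst snd sq
  have sq1 := IsPullback.of_hasPullback a fst
  have h1 := h hZ g _ _ (sq1.paste_vert sq)
  have hs : Function.Surjective (Points.map (pullback.snd a fst)) := surjective_of_isPullback sq1 ha
  change IsClosedMap (Points.map _) at h1
  have e : Points.map (pullback.snd a fst ≫ snd) = Points.map snd ∘ Points.map (pullback.snd a fst) := by
    funext z
    exact Points.map_comp _ _ _
  rw [e] at h1
  exact IsClosedMap.of_comp_surjective hs (Points.continuous_map _) h1

/-- `f ×_B f` factors into two base changes of `f`. -/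
theorem exists_factor {X Y B : Sp S} {f : X ⟶ Y} {p : X ⟶ B} {q : Y ⟶ B} (comm : f ≫ q = p) :
    ∃ (b : pullback p p ⟶ pullback p q) (a : pullback p q ⟶ pullback q q),
      IsPullback b (pullback.snd p p) (pullback.snd p q) f ∧
      IsPullback (pullback.fst p q) a f (pullback.fst q q) ∧
      pullback.diagonal p ≫ b ≫ a = f ≫ pullback.diagonal q := by
  have wa : (pullback.fst p q ≫ f) ≫ q = pullback.snd p q ≫ q := by
    rw [Category.assoc, comm, pullback.condition]
  have wb : pullback.fst p p ≫ p = (pullback.snd p p ≫ f) ≫ q := by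
    rw [Category.assoc, comm, pullback.condition]
  refine ⟨pullback.lift (pullback.fst p p) (pullback.snd p p ≫ f) wb,
    pullback.lift (pullback.fst p q ≫ f) (pullback.snd p q) wa, ?_, ?_, ?_⟩
  · refine IsPullback.of_right (h₁₂ := pullback.fst p q) (h₂₂ := q) (v₁₃ := p) ?_
      (pullback.lift_snd _ _ _) (IsPullback.of_hasPullback p q)
    rw [pullback.lift_fst, comm]
    exact IsPullback.of_hasPullback p p
  · refine (IsPullback.of_right (h₁₂ := pullback.snd q q) (h₂₂ := q) (v₁₃ := q) ?_
      (pullback.lift_fst _ _ _) (IsPullback.of_hasPullback q q).flip).flip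
    rw [pullback.lift_snd, comm]
    exact (IsPullback.of_hasPullback p q).flip
  · apply pullback.hom_ext
    · rw [Category.assoc, Category.assoc, Category.assoc, pullback.lift_fst, ← Category.assoc (pullback.lift _ _ wb),
        pullback.lift_fst, ← Category.assoc, pullback.diagonal_fst, pullback.diagonal_fst, Category.id_comp,
        Category.comp_id]
    · rw [Category.assoc, Category.assoc, Category.assoc, pullback.lift_snd, pullback.lift_snd, ← Category.assoc,
        pullback.diagonal_snd, pullback.diagonal_snd, Category.id_comp, Category.comp_id]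

theorem universallyClosed_diagonal {X Y B : Space S} (f : X ⟶ Y) (p : X ⟶ B)
    (q : Y ⟶ B) (comm : f ≫ q = p) (hc : AlgSp.IsUnivClosedMor f.hom) :
    ∃ (c : pullback p.hom p.hom ⟶ pullback q.hom q.hom), IsUnivClosedMor c ∧ IsQuasiCompactMor c ∧
      pullback.diagonal p.hom ≫ c = f.hom ≫ pullback.diagonal q.hom := by
  have comm' : f.hom ≫ q.hom = p.hom := congrArg InducedCategory.Hom.hom comm
  obtain ⟨b, a, sqb, sqa, e⟩ := exists_factor comm'
  have h1 : IsAlgSpace (pullback p.hom q.hom) :=
    K613.Chart.isAlgSpace_pullback X.property Y.property B.property _ _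
  have h2 : IsAlgSpace (pullback q.hom q.hom) :=
    K613.Chart.isAlgSpace_pullback Y.property Y.property B.property _ _
  have h3 : IsAlgSpace (pullback p.hom p.hom) :=
    K613.Chart.isAlgSpace_pullback X.property X.property B.property _ _
  have ha := isUnivClosedMor_of_isPullback sqa hc
  have hb := isUnivClosedMor_of_isPullback sqb.flip hc
  exact ⟨b ≫ a, isUnivClosedMor_comp h1 h2 hb ha, isQuasiCompactMor_comp h1 h2
    (isQuasiCompactMor_of_isUnivClosedMor h3 h1 hb) (isQuasiCompactMor_of_isUnivClosedMor h1 h2 ha), e⟩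

theorem isSeparatedMor_iff_isUnivClosedMor {X Y : Space S} (f : X ⟶ Y) :
    IsSeparatedMor f.hom ↔ IsUnivClosedMor (pullback.diagonal f.hom) := by
  obtain ⟨h1, h2, h3, -, -⟩ := Groth.Agent.S9900.result f
  rw [← repWith_universallyClosed_iff h1]
  constructor
  · intro h
    exact repWith_mono (fun _ _ g (_ : IsClosedImmersion g) => show UniversallyClosed g from inferInstance) h
  · intro h
    refine ⟨h1, fun U V g fst snd sq => ?_⟩
    have : UniversallyClosed snd.left := h.2 g fst snd sq
    have : LocallyOfFiniteType snd.left := h2.2 g fst snd sq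
    have : CategoryTheory.Mono snd.left := h3.2 g fst snd sq
    exact (IsClosedImmersion.iff_isProper_and_mono snd.left).2 ⟨{}, inferInstance⟩

theorem isQuasiSeparatedMor_iff_isQuasiCompactMor {X Y : Space S} (f : X ⟶ Y) :
    IsQuasiSeparatedMor f.hom ↔ IsQuasiCompactMor (pullback.diagonal f.hom) :=
  repWith_quasiCompact_iff (K613.Diag.representable_diagonal X.property.diag f.hom)

theorem separation_of_surjective_univClosed {X Y B : Space S} (f : X ⟶ Y) (p : X ⟶ B)
    (q : Y ⟶ B) (comm : f ≫ q = p) (hs : AlgSp.IsSurjectiveMor f.hom) (hc : AlgSp.IsUnivClosedMor f.hom) :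
    (AlgSp.IsQuasiSeparatedMor p.hom → AlgSp.IsQuasiSeparatedMor q.hom) ∧
    (AlgSp.IsSeparatedMor p.hom → AlgSp.IsSeparatedMor q.hom) := by
  obtain ⟨c, hc1, hc2, e⟩ := universallyClosed_diagonal f p q comm hc
  have h2 : IsAlgSpace (pullback q.hom q.hom) :=
    K613.Chart.isAlgSpace_pullback Y.property Y.property B.property _ _
  have h3 : IsAlgSpace (pullback p.hom p.hom) :=
    K613.Chart.isAlgSpace_pullback X.property X.property B.property _ _
  constructor
  · intro h
    rw [isQuasiSeparatedMor_iff_isQuasiCompactMor] at h ⊢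
    have h4 : IsQuasiCompactMor (f.hom ≫ pullback.diagonal q.hom) := by
      rw [← e]
      exact isQuasiCompactMor_comp h3 h2 h hc2
    exact isQuasiCompactMor_of_surjective_comp Y.property h2 hs h4
  · intro h
    rw [isSeparatedMor_iff_isUnivClosedMor] at h ⊢
    have h4 : IsUnivClosedMor (f.hom ≫ pullback.diagonal q.hom) := by
      rw [← e]
      exact isUnivClosedMor_comp h3 h2 h hc1
    exact isUnivClosedMor_of_precomp hs h4

end K596.SepSurj
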