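import Groth.Agent.AlgSp.K597.EffDesc
import Groth.Agent.AlgSp.K596.QC
import Groth.Agent.Desc.ImmersionDescent
import Groth.Agent.Desc.MorDescent

/-!
# Etale descent of (closed, open) immersions of fppf sheaves, including representability
-/

set_option autoImplicit false
universe u
open CategoryTheory CategoryTheory.Limits AlgebraicGeometry Opposite Topology TopologicalSpace

namespace K596.ImmDesc

open AlgSp K596.Pts K596.Univ K594.Elem

variable {S : Scheme.{u}} {F G H P : Sp S}

/-- `RepWith Q f` for a class of immersions `Q` can be checked etale locally on the target. -/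
theorem repWith_of_etale_local {Q : MorphismProperty Scheme.{u}} (hle : Q ≤ @IsImmersion)
    [IsZariskiLocalAtTarget Q] [Q.DescendsAlong K597.EffDesc.Fppf.{u}] [Q.IsStableUnderBaseChange] (f : F ⟶ G)
    (H : ∀ (U : Over S) (y : (yon S).obj U ⟶ G) (t : U.left), ∃ (V : Over S) (v : V ⟶ U),
      Etale v.left ∧ t ∈ Set.range v.left ∧ ∃ (R : Sp S) (fst : R ⟶ F) (snd : R ⟶ (yon S).obj V),
        IsPullback fst snd f ((yon S).map v ≫ y) ∧ RepWith Q snd) : RepWith Q f := by
  refine K597.EffDesc.repWith_of_etale_local Q fun U y t => ?_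
  obtain ⟨V, v, hv, ⟨x, rfl⟩, R, fst, snd, sq, hR⟩ := H U (secEquiv.symm y) t
  -- an affine open neighbourhood of `x` in `V`
  obtain ⟨A, hA, hx, -⟩ := exists_isAffineOpen_mem_and_subset (X := V.left) (x := x) (U := ⊤) trivial
  obtain ⟨W, w, k, sqW⟩ := hR.1 ((yon S).map (resι V A))
  have hQ : Q w.left := hR.2 _ _ _ sqW
  have hvA : Etale (resι V A ≫ v).left := by
    change Etale (A.ι ≫ v.left)
    infer_instance
  have sq2 := sqW.paste_horiz sq
  rw [← Category.assoc, ← Functor.map_comp] at sq2
  have h1 := isRep_of_isPullback sq2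
  have e : secEquiv ((yon S).map (resι V A ≫ v) ≫ secEquiv.symm y) = G.obj.map (resι V A ≫ v).op y := by
    have := ((J S).uliftYonedaEquiv_naturality (secEquiv.symm y) (resι V A ≫ v)).symm
    exact this.trans (congrArg _ (secEquiv.apply_symm_apply y))
  rw [e] at h1
  refine ⟨res V A, resι V A ≫ v, W, w, _, hvA, ?_, h1, hQ, ?_⟩
  · refine ⟨show ↥A from ⟨x, hx⟩, ?_⟩
    rfl
  · intro O hO
    have : IsImmersion w.left := hle _ hQ
    have : CompactSpace O := isCompact_iff_compactSpace.1 hO
    have : IsAffine (res V A).left := hA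
    exact Scheme.IsQuasiAffine.of_isImmersion (O.ι ≫ w.left)

/-- test on affine schemes over the target -/
theorem repWith_of_affine {Q : MorphismProperty Scheme.{u}} (hle : Q ≤ @IsImmersion)
    [IsZariskiLocalAtTarget Q] [Q.DescendsAlong K597.EffDesc.Fppf.{u}] [Q.IsStableUnderBaseChange] (f : F ⟶ G)
    (h : ∀ (Z : Over S), IsAffine Z.left → ∀ (g : (yon S).obj Z ⟶ G), ∃ (P : Sp S)
      (fst : P ⟶ F) (snd : P ⟶ (yon S).obj Z), IsPullback fst snd f g ∧ RepWith Q snd) :
    RepWith Q f := by
  refine repWith_of_etale_local hle f fun U y t => ?_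
  obtain ⟨A, hA, hx, -⟩ := exists_isAffineOpen_mem_and_subset (X := U.left) (x := t) (U := ⊤) trivial
  refine ⟨res U A, resι U A, show Etale A.ι from inferInstance, ⟨show ↥A from ⟨t, hx⟩, rfl⟩, ?_⟩
  exact h (res U A) hA _

/-- descent along a representable etale surjective map of sheaves -/
theorem repWith_of_etale_cover {Q : MorphismProperty Scheme.{u}} (hle : Q ≤ @IsImmersion)
    [IsZariskiLocalAtTarget Q] [Q.DescendsAlong K597.EffDesc.Fppf.{u}] [Q.IsStableUnderBaseChange] {f : F ⟶ G}
    {p : H ⟶ G} (hp : RepWith @Etale p) (hps : RepWith @Surjective p) {fst : P ⟶ F} {snd : P ⟶ H}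
    (sq : IsPullback fst snd f p) (h : RepWith Q snd) : RepWith Q f := by
  refine repWith_of_etale_local hle f fun U y t => ?_
  obtain ⟨T, a, b, sqT⟩ := hp.1 y
  have h1 : Etale a.left := hp.2 _ _ _ sqT
  have h2 : Surjective a.left := hps.2 _ _ _ sqT
  obtain ⟨t', rfl⟩ := h2.surj t
  refine ⟨T, a, h1, ⟨t', rfl⟩, pullback snd b, pullback.fst snd b ≫ fst, pullback.snd snd b, ?_, ?_⟩
  · rw [← sqT.w]
    exact (IsPullback.of_hasPullback snd b).paste_horiz sq
  · exact MorphismProperty.of_isPullback (P := RepWith _) (IsPullback.of_hasPullback snd b) h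

set_option backward.isDefEq.respectTransparency false in
set_option backward.isDefEq.respectTransparency.types false in
theorem closed_descends : MorphismProperty.DescendsAlong @IsClosedImmersion K597.EffDesc.Fppf.{u} := by
  have := Groth.Agent.Desc.MorDescent.descendsAlong_isClosedImmersion.{u}
  infer_instance

theorem immersion_descends : MorphismProperty.DescendsAlong @IsImmersion K597.EffDesc.Fppf.{u} :=
  Groth.Agent.Desc.ImmersionDescent.descendsAlong_isImmersion_fppf.{u}

theorem closed_le : (@IsClosedImmersion : MorphismProperty Scheme.{u}) ≤ @IsImmersion :=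
  fun _ _ f (_ : IsClosedImmersion f) => show IsImmersion f from inferInstance

theorem open_le : (@IsOpenImmersion : MorphismProperty Scheme.{u}) ≤ @IsImmersion :=
  fun _ _ f (_ : IsOpenImmersion f) => show IsImmersion f from inferInstance

end K596.ImmDesc
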