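import Groth.Agent.AlgSp.K596.QC
import Mathlib.AlgebraicGeometry.Morphisms.UniversallyClosed

set_option autoImplicit false
universe u
open CategoryTheory CategoryTheory.Limits AlgebraicGeometry Opposite Topology TopologicalSpace

namespace K596.ClosedQC

open AlgSp K596.Pts K596.Univ K596.QC

variable {S : Scheme.{u}} {F G H P : Sp S}

open _root_.PrimeSpectrum MvPolynomial in
/-- A universally closed algebraic space over a field is quasi-compact (the points version). -/
theorem compactSpace_of_field {K : Type u} [Field K] {str : Spec (CommRingCat.of K) ⟶ S}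
    (hF : IsAlgSpace F) {f : F ⟶ (yon S).obj (Over.mk str)} (hf : IsUnivClosedMor f) :
    CompactSpace (Points F) := by
  classical
  obtain ⟨U₀, p₀, hp, hs⟩ := hF.atlas
  have hsurj := K609.Points.surjective_ofPt_of_repWith_surjective hs
  let I := U₀.left.affineOpens
  let U (i : I) : Set (Points F) := Points.ofPt p₀ '' (i.1 : Set ↥U₀.left)
  have hUo (i : I) : IsOpen (U i) := K609.Points.isOpenMap_ofPt hp _ i.1.isOpen
  have hUc (i : I) : IsCompact (U i) := i.2.isCompact.image (Points.continuous_ofPt p₀)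
  have hUcov (x : Points F) : ∃ i, x ∈ U i := by
    obtain ⟨u, rfl⟩ := hsurj x
    obtain ⟨V, hV, hu, -⟩ := exists_isAffineOpen_mem_and_subset (X := U₀.left) (x := u) (U := ⊤) trivial
    exact ⟨⟨V, hV⟩, u, hu, rfl⟩
  let T' : Scheme.{u} := Spec (.of <| MvPolynomial I K)
  let q' : T' ⟶ Spec (.of K) := Spec.map (CommRingCat.ofHom MvPolynomial.C)
  let T : Over S := Over.mk (q' ≫ str)
  let q : T ⟶ Over.mk str := Over.homMk q' rfl
  let Ti (i : I) : T'.Opens := basicOpen (MvPolynomial.X i)
  let e : ↥T' ≃ₜ Points ((yon S).obj T) := Points.schemeHomeo T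
  have sq := IsPullback.of_hasPullback f ((yon S).map q)
  let PP := pullback f ((yon S).map q)
  let fT : Points PP → ↥T' := fun z => e.symm (Points.map (pullback.snd f ((yon S).map q)) z)
  have hfT : IsClosedMap fT :=
    e.symm.isClosedMap.comp (hf (IsAlgSpace.yon_obj T) ((yon S).map q) _ _ sq)
  have hfTc : Continuous fT := e.symm.continuous.comp (Points.continuous_map _)
  let p : Points PP → Points F := Points.map (pullback.fst f ((yon S).map q))
  have hpc : Continuous p := Points.continuous_map _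
  have hsub : ∀ x y : Points ((yon S).obj (Over.mk str)), x = y := by
    intro x y
    obtain ⟨a, rfl⟩ := (Points.schemeHomeo (Over.mk str)).surjective x
    obtain ⟨b, rfl⟩ := (Points.schemeHomeo (Over.mk str)).surjective y
    have : a = b := Subsingleton.elim (α := ↥(Spec (CommRingCat.of K))) a b
    rw [this]
  have hex : ∀ (x : Points F) (t : ↥T'), ∃ z : Points PP, p z = x ∧ fT z = t := by
    intro x t
    obtain ⟨z, hz1, hz2⟩ := exists_of_isPullback sq x (e t) (hsub _ _)
    exact ⟨z, hz1, by simp only [fT, hz2, Homeomorph.symm_apply_apply]⟩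
  let Z : Set (Points PP) := (⋃ i, fT ⁻¹' (Ti i : Set ↥T') ∩ p ⁻¹' (U i))ᶜ
  have hZ : IsClosed Z := by
    simp only [Z, isClosed_compl_iff]
    exact isOpen_iUnion fun i ↦ ((Ti i).2.preimage hfTc).inter ((hUo i).preimage hpc)
  let Zc : T'.Opens := ⟨(fT '' Z)ᶜ, (hfT _ hZ).isOpen_compl⟩
  let ψ : MvPolynomial I K →ₐ[K] K := MvPolynomial.aeval (fun _ ↦ 1)
  let t : ↥T' := Spec.map (CommRingCat.ofHom ψ.toRingHom) (default : ↥(Spec (CommRingCat.of K)))
  have ht (i : I) : t ∈ Ti i := show ψ (.X i) ≠ 0 by simp [ψ]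
  have htZc : t ∈ Zc := by
    intro ⟨z, hz, hzt⟩
    suffices ∃ i, fT z ∈ Ti i ∧ p z ∈ U i from hz (by simpa)
    obtain ⟨i, hi⟩ := hUcov (p z)
    exact ⟨i, hzt ▸ ht _, hi⟩
  obtain ⟨U', ⟨g, rfl⟩, htU', hU'le⟩ := Opens.isBasis_iff_nbhd.mp isBasis_basic_opens htZc
  let σ : Finset I := MvPolynomial.vars g
  let φ : MvPolynomial I K →+* MvPolynomial I K :=
    (MvPolynomial.aeval fun i : I ↦ if i ∈ σ then MvPolynomial.X i else 0).toRingHom
  let t' : ↥T' := Spec.map (CommRingCat.ofHom φ) t
  have ht'g : t' ∈ PrimeSpectrum.basicOpen g :=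
    show φ g ∉ t.asIdeal from (show φ g = g from aeval_ite_mem_eq_self g subset_rfl).symm ▸ htU'
  have h : t' ∉ fT '' Z := hU'le ht'g
  suffices ⋃ i ∈ σ, U i = Set.univ from
    ⟨this ▸ Finset.isCompact_biUnion _ fun i _ ↦ hUc i⟩
  rw [Set.iUnion₂_eq_univ_iff]
  contrapose! h
  obtain ⟨x, hx⟩ := h
  obtain ⟨z, rfl, hzr⟩ := hex x t'
  suffices ∀ i, t ∈ (Ti i).comap ⟨_, continuous_comap φ⟩ → p z ∉ U i from
    ⟨z, by simpa [Z, hzr], hzr⟩
  intro i hi₁ hi₂
  rw [comap_basicOpen, show φ (.X i) = 0 by simpa [φ] using (hx i · hi₂), basicOpen_zero] at hi₁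
  cases hi₁

theorem isUnivClosedMor_of_isPullback {X Y Z : Sp S} {f : X ⟶ Z} {g : Y ⟶ Z} {fst : P ⟶ X} {snd : P ⟶ Y}
    (sq : IsPullback fst snd f g) (hf : IsUnivClosedMor f) : IsUnivClosedMor snd :=
  fun _ _ hT t _ _ sqT => hf hT (t ≫ g) _ _ (sqT.paste_horiz sq)

/-- A universally closed map from an algebraic space to a scheme is proper on points. -/
theorem isProperMap_of_isUnivClosedMor {Z : Over S} (hF : IsAlgSpace F) {f : F ⟶ (yon S).obj Z}
    (hf : IsUnivClosedMor f) : IsProperMap (Points.map f) := by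
  rw [isProperMap_iff_isClosedMap_and_compact_fibers]
  refine ⟨Points.continuous_map f, hf (IsAlgSpace.yon_obj Z) (𝟙 _) (𝟙 _) f
    (IsPullback.id_horiz f), fun y ↦ ?_⟩
  obtain ⟨K, _, str, g, rfl⟩ := exists_fpt y
  have sq := IsPullback.of_hasPullback f g
  have h1 : IsUnivClosedMor (pullback.snd f g) := isUnivClosedMor_of_isPullback sq hf
  have hP : IsAlgSpace (pullback f g) :=
    K613.Chart.isAlgSpace_pullback hF (IsAlgSpace.yon_obj _) (IsAlgSpace.yon_obj _) f g
  have := compactSpace_of_field hP h1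
  have e : Points.map f ⁻¹' {fpt g} = Set.range (Points.map (pullback.fst f g)) := by
    ext x
    constructor
    · intro hx
      obtain ⟨z, hz, -⟩ := exists_of_isPullback sq x (fpt (𝟙 _)) (by
        rw [map_fpt, Category.id_comp]; exact hx)
      exact ⟨z, hz⟩
    · rintro ⟨z, rfl⟩
      change Points.map f (Points.map _ z) = fpt g
      rw [← Points.map_comp, sq.w, Points.map_comp]
      have hsub : ∀ x y : Points ((yon S).obj (Over.mk str)), x = y := by
        intro x y
        obtain ⟨a, rfl⟩ := (Points.schemeHomeo (Over.mk str)).surjective x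
        obtain ⟨b, rfl⟩ := (Points.schemeHomeo (Over.mk str)).surjective y
        have : a = b := Subsingleton.elim (α := ↥(Spec (CommRingCat.of K))) a b
        rw [this]
      rw [hsub (Points.map (pullback.snd f g) z) (fpt (𝟙 _)), map_fpt, Category.id_comp]
  rw [e]
  exact isCompact_range (Points.continuous_map _)

/-- Universally closed morphisms of algebraic spaces are quasi-compact. -/
theorem isQuasiCompactMor_of_isUnivClosedMor (hF : IsAlgSpace F) (hG : IsAlgSpace G) {f : F ⟶ G}
    (hf : IsUnivClosedMor f) : IsQuasiCompactMor f := by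
  refine isQuasiCompactMor_of_affine hF hG fun Z hZ g P fst snd sq => ?_
  have hP : IsAlgSpace P := K613.Chart.isAlgSpace_of_isPullback hG.diag hF (IsAlgSpace.yon_obj Z) sq
  have h1 := isProperMap_of_isUnivClosedMor hP (isUnivClosedMor_of_isPullback sq hf)
  have : CompactSpace (Points ((yon S).obj Z)) := (Points.schemeHomeo Z).compactSpace
  exact ⟨by simpa using h1.isCompact_preimage (K := Set.univ) isCompact_univ⟩

end K596.ClosedQC
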