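import Groth.Agent.AlgSp.K613.Chart
import Groth.Agent.AlgSp.K609.QC
import Groth.Agent.AlgSp.K596.Univ
import Mathlib.AlgebraicGeometry.Morphisms.LocalFlatDescent

set_option autoImplicit false
universe u
open CategoryTheory CategoryTheory.Limits AlgebraicGeometry Opposite Topology TopologicalSpace

namespace K596.MonoField

open AlgSp K596.Pts K596.Univ

variable {S : Scheme.{u}} {F G H P : Sp S}

theorem isPullback_of_mono {A B : Sp S} {p₁ : P ⟶ A} {p₂ : P ⟶ B} {a : A ⟶ F} {b : B ⟶ F} (f : F ⟶ G)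
    [CategoryTheory.Mono f] (sq : IsPullback p₁ p₂ (a ≫ f) (b ≫ f)) : IsPullback p₁ p₂ a b := by
  have w : p₁ ≫ a = p₂ ≫ b := by
    rw [← cancel_mono f, Category.assoc, Category.assoc, sq.w]
  refine K613.Basic.isPullback_of_yon w fun T x y hxy => ?_
  have w' : x ≫ a ≫ f = y ≫ b ≫ f := by rw [← Category.assoc, hxy, Category.assoc]
  exact ⟨sq.lift x y w', ⟨sq.lift_fst _ _ _, sq.lift_snd _ _ _⟩, fun c hc => sq.hom_ext
    (by rw [sq.lift_fst, hc.1]) (by rw [sq.lift_snd, hc.2])⟩

/-- An etale chart of a subsheaf of the spectrum of a field is etale over the field. -/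
theorem etale_of_mono {k : Type u} [Field k] {str : Spec (CommRingCat.of k) ⟶ S}
    (f : F ⟶ (yon S).obj (Over.mk str)) [CategoryTheory.Mono f] {W : Over S} (g : (yon S).obj W ⟶ F)
    (hg : RepWith @Etale g) [IsAffine W.left] [Nonempty ↥W.left] (w : W ⟶ Over.mk str)
    (hw : (yon S).map w = g ≫ f) : Etale w.left := by
  have sq := IsPullback.of_hasPullback w w
  have sq1 := sq.map (yon S)
  rw [hw] at sq1
  have sq2 := isPullback_of_mono f sq1
  have h1 : Etale (pullback.snd w w).left := hg.2 g _ _ sq2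
  have hsub : Subsingleton ↥(Spec (CommRingCat.of k)) := inferInstanceAs (Subsingleton (PrimeSpectrum k))
  let w' : W.left ⟶ Spec (CommRingCat.of k) := w.left
  have h2 : Surjective w' := ⟨fun y => ⟨Classical.arbitrary _, Subsingleton.elim _ _⟩⟩
  have h3 : Flat w' := inferInstance
  have h4 : QuasiCompact w' := inferInstance
  exact MorphismProperty.of_isPullback_of_descendsAlong (P := @Etale)
    (Q := @Surjective ⊓ @Flat ⊓ @QuasiCompact) (sq.map (Over.forget S)).flip ⟨⟨h2, h3⟩, h4⟩ h1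

theorem isIso_of_mono_to_field (hF : IsAlgSpace F) {k : Type u} [Field k] {str : Spec (CommRingCat.of k) ⟶ S}
    (f : F ⟶ (yon S).obj (Over.mk str)) [CategoryTheory.Mono f] (hne : Nonempty (Points F)) : IsIso f := by
  obtain ⟨U, p, hp, hs⟩ := hF.atlas
  obtain ⟨x⟩ := hne
  obtain ⟨y, -⟩ := surjective_of_repWith hs x
  obtain ⟨u, -⟩ := (Points.schemeHomeo U).surjective y
  obtain ⟨V, hV, hu, -⟩ := exists_isAffineOpen_mem_and_subset (X := U.left) (x := u) (U := ⊤) trivial
  let W : Over S := res U V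
  have hW : IsAffine W.left := hV
  have hWn : Nonempty ↥W.left := ⟨show ↥V from ⟨u, hu⟩⟩
  have hg : RepWith @Etale ((yon S).map (resι U V) ≫ p) :=
    K609.QC.repWith_yon_map_comp _ (resι U V) (show Etale V.ι from inferInstance) hp
  obtain ⟨w, hw⟩ := (yon S).map_surjective (((yon S).map (resι U V) ≫ p) ≫ f)
  have he := etale_of_mono f _ hg w hw
  have hsub : Subsingleton ↥(Spec (CommRingCat.of k)) := inferInstanceAs (Subsingleton (PrimeSpectrum k))
  have hc : K613.Cover.EtC w := ⟨he, ⟨fun y => ⟨Classical.arbitrary _,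
    Subsingleton.elim (α := ↥(Spec (CommRingCat.of k))) _ _⟩⟩⟩
  have h1 := hc.eSurj.fSurj
  rw [hw] at h1
  exact h1.of_comp.isIso_of_mono

end K596.MonoField
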